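import Groth.Agent.LocAlgCx.BaseChange
import Groth.Agent.Nagata.Normalization
import Groth.Agent.RegLoc.Completion
import Groth.Agent.Depth.CM
import Groth.Agent.S9605
import Mathlib.Algebra.CharP.Lemmas
import Mathlib.RingTheory.Ideal.GoingUp
import Mathlib.RingTheory.Filtration

/-!
# The new intersection theorem in characteristic `p`

Proof: homology in degrees below the dimension is killed by a uniform non-zero element; apply this
to the Frobenius twists of a complex and use the Krull intersection theorem.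
-/

set_option autoImplicit false

universe u

open CategoryTheory RingTheory.Sequence

namespace Groth.Agent.LocAlgCx

theorem regRingC_of_finite {R B : Type u} [CommRing R] [CommRing B] [Algebra R B] {r : ℕ}
    (g : (Fin r → R) →ₗ[R] B) (hg : Function.Injective g) (c : R)
    (hc : ∀ b : B, c • b ∈ LinearMap.range g) :
    ∀ (rs₂ rs₁ : List R), IsWeaklyRegular R (rs₁ ++ rs₂) →
      RegRingC ((Ideal.ofList rs₁).map (algebraMap R B)) (algebraMap R B c)
        (rs₂.map (algebraMap R B))
  | [], _, _ => trivial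
  | x :: rs₂, rs₁, h => by
    refine ⟨fun z hz => ?_, ?_⟩
    · have h2 := ((isWeaklyRegular_append_iff R rs₁ (x :: rs₂)).1 h).2
      rw [isWeaklyRegular_cons_iff, isSMulRegular_quotient_iff_mem_of_smul_mem] at h2
      have hmem : x • z ∈ Ideal.ofList rs₁ • (⊤ : Submodule R B) := by
        rw [Ideal.smul_top_eq_map, Submodule.restrictScalars_mem, Algebra.smul_def]
        exact hz
      obtain ⟨w, hw⟩ := hc z
      have hgj : ∀ y ∈ Ideal.ofList rs₁ • (⊤ : Submodule R B),
          ∃ w' ∈ Ideal.ofList rs₁ • (⊤ : Submodule R (Fin r → R)), g w' = c • y := by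
        intro y hy
        refine Submodule.smul_induction_on hy (fun a ha b _ => ?_) ?_
        · obtain ⟨wb, hwb⟩ := hc b
          exact ⟨a • wb, Submodule.smul_mem_smul ha trivial, by rw [map_smul, hwb, smul_comm]⟩
        · rintro p q ⟨wp, hp, hp'⟩ ⟨wq, hq, hq'⟩
          exact ⟨wp + wq, add_mem hp hq, by rw [map_add, hp', hq', smul_add]⟩
      obtain ⟨w', hw', he⟩ := hgj _ hmem
      have hxw : x • w ∈ Ideal.ofList rs₁ • (⊤ : Submodule R (Fin r → R)) := by
        have : g (x • w) = g w' := by rw [map_smul, hw, he, smul_comm]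
        rw [hg this]; exact hw'
      have hwJ : w ∈ Ideal.ofList rs₁ • (⊤ : Submodule R (Fin r → R)) := by
        refine mem_smul_top_of_coord ((Pi.basisFun R (Fin r)).reindex Equiv.ulift.symm) fun i => ?_
        have h3 := h2.1 (((Pi.basisFun R (Fin r)).reindex Equiv.ulift.symm).repr w i)
        simp only [smul_eq_mul, Ideal.mul_top] at h3
        exact h3 (by
          simpa using coord_mem ((Pi.basisFun R (Fin r)).reindex Equiv.ulift.symm) hxw i)
      have := map_smul_top g hwJ
      rw [hw, Ideal.smul_top_eq_map, Submodule.restrictScalars_mem, Algebra.smul_def] at this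
      exact this
    · have := regRingC_of_finite g hg c hc rs₂ (rs₁ ++ [x]) (by simpa using h)
      rwa [Ideal.ofList_append, Ideal.ofList_singleton, Ideal.map_sup,
        Ideal.map_span (algebraMap R B) {x}, Set.image_singleton] at this

/-- A finite torsion-free module over a domain contains a free module up to one denominator. -/
theorem exists_free_sub {R B : Type u} [CommRing R] [IsDomain R] [CommRing B] [IsDomain B]
    [Algebra R B] [Module.Finite R B] (hinj : Function.Injective (algebraMap R B)) :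
    ∃ (r : ℕ) (g : (Fin r → R) →ₗ[R] B) (c : R), Function.Injective g ∧ c ≠ 0 ∧
      ∀ b : B, c • b ∈ LinearMap.range g := by
  classical
  obtain ⟨t, ht⟩ := Module.Finite.fg_top (R := R) (M := B)
  let S := t.powerset.filter fun s : Finset B => LinearIndepOn R id (↑s : Set B)
  have hS : S.Nonempty := ⟨∅, by simp [S]⟩
  obtain ⟨s, hs, hmax⟩ := S.exists_max_image Finset.card hS
  simp only [S, Finset.mem_filter, Finset.mem_powerset] at hs
  obtain ⟨hst, hli⟩ := hs
  let v : Fin s.card → B := fun i => (s.equivFin.symm i : B)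
  have hv : LinearIndependent R v :=
    LinearIndependent.comp hli s.equivFin.symm (Equiv.injective _)
  have hspan : ∀ b ∈ t, ∃ a : R, a ≠ 0 ∧ a • b ∈ Submodule.span R (↑s : Set B) := by
    intro b hb
    by_cases hbs : b ∈ s
    · exact ⟨1, one_ne_zero, by rw [one_smul]; exact Submodule.subset_span hbs⟩
    by_contra hcon
    push Not at hcon
    have hnew : LinearIndepOn R id (↑(insert b s) : Set B) := by
      rw [linearIndepOn_finset_iff]
      intro g hg i hi
      rw [Finset.sum_insert hbs] at hg
      have hgb : g b = 0 := by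
        by_contra hne
        refine hcon (g b) hne ?_
        rw [show g b • b = -∑ x ∈ s, g x • x from eq_neg_of_add_eq_zero_left hg]
        exact neg_mem (Submodule.sum_mem _ fun x hx => Submodule.smul_mem _ _ (Submodule.subset_span hx))
      rcases Finset.mem_insert.1 hi with rfl | hi
      · exact hgb
      · rw [hgb] at hg
        refine (linearIndepOn_finset_iff.1 hli) g ?_ i hi
        simpa using hg
    have := hmax (insert b s) (by
      simp only [S, Finset.mem_filter, Finset.mem_powerset]
      exact ⟨Finset.insert_subset hb hst, hnew⟩)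
    rw [Finset.card_insert_of_notMem hbs] at this
    omega
  choose a ha ha' using fun b : ↥t => hspan b b.2
  let c : R := ∏ b, a b
  refine ⟨s.card, Fintype.linearCombination R v, c, ?_, Finset.prod_ne_zero_iff.2 fun b _ => ha b,
    fun b => ?_⟩
  · rw [injective_iff_map_eq_zero]
    intro w hw
    rw [Fintype.linearCombination_apply] at hw
    exact funext fun i => Fintype.linearIndependent_iff.1 hv w hw i
  rw [Fintype.range_linearCombination]
  have hr : Set.range v = (↑s : Set B) := by
    ext x
    refine ⟨fun ⟨i, hi⟩ => hi ▸ (s.equivFin.symm i).2, fun hx => ⟨s.equivFin ⟨x, hx⟩, ?_⟩⟩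
    simp [v]
  rw [hr]
  have hb : b ∈ Submodule.span R (↑t : Set B) := by rw [ht]; exact trivial
  induction hb using Submodule.span_induction with
  | mem x hx =>
    show (∏ b, a b) • x ∈ _
    rw [Fintype.prod_eq_mul_prod_compl (⟨x, hx⟩ : ↥t), mul_comm, mul_smul]
    exact Submodule.smul_mem _ _ (ha' ⟨x, hx⟩)
  | zero => simp
  | add x y _ _ hx hy => rw [smul_add]; exact add_mem hx hy
  | smul q x _ hx => rw [smul_comm]; exact Submodule.smul_mem _ _ hx

/-- A complete local domain has a non-zero element `c` and deep sequences of length the dimension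
that are regular up to `c`. -/
theorem exists_regRingC (B : Type u) [CommRing B] [IsDomain B] [IsLocalRing B] [IsNoetherianRing B]
    [IsAdicComplete (IsLocalRing.maximalIdeal B) B] (d : ℕ) (hd : ringKrullDim B = d) :
    ∃ c : B, c ≠ 0 ∧ ∀ N : ℕ, ∃ rs : List B, rs.length = d ∧
      (∀ r ∈ rs, r ∈ IsLocalRing.maximalIdeal B ^ N) ∧ RegRingC ⊥ c rs := by
  obtain ⟨Λ, _, _, n, f, -, hinj, hfin, -, hreg, -⟩ :=
    Groth.Agent.Nagata.Normalization.exists_normalization B
  letI := f.toAlgebra
  haveI : Module.Finite (MvPowerSeries (Fin n) Λ) B := hfin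
  haveI := hreg
  haveI : IsDomain (MvPowerSeries (Fin n) Λ) := Function.Injective.isDomain f hinj
  haveI : Algebra.IsIntegral (MvPowerSeries (Fin n) Λ) B := Algebra.IsIntegral.of_finite _ _
  haveI : FaithfulSMul (MvPowerSeries (Fin n) Λ) B :=
    (faithfulSMul_iff_algebraMap_injective _ _).2 hinj
  obtain ⟨r, g, c, hg, hc, hcb⟩ := exists_free_sub (R := MvPowerSeries (Fin n) Λ) (B := B) hinj
  refine ⟨f c, (map_ne_zero_iff f hinj).2 hc, fun N => ?_⟩
  haveI := Groth.Agent.Depth.isCohenMacaulayLocalRing_of_isRegularLocalRing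
    (R := MvPowerSeries (Fin n) Λ)
  have hdim : ringKrullDim (MvPowerSeries (Fin n) Λ) = d := by
    rw [← hd]
    first
      | exact InvQLib.FiniteFree.ringKrullDim_eq_of_integral (MvPowerSeries (Fin n) Λ) B hinj
      | exact (InvQLib.FiniteFree.ringKrullDim_eq_of_integral (MvPowerSeries (Fin n) Λ) B hinj).symm
  have hdepth : (d : ℕ∞) ≤ LocCoh.depth (MvPowerSeries (Fin n) Λ) (MvPowerSeries (Fin n) Λ) := by
    have h : ((LocCoh.depth (MvPowerSeries (Fin n) Λ) (MvPowerSeries (Fin n) Λ) : ℕ∞) : WithBot ℕ∞) =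
        ((d : ℕ∞) : WithBot ℕ∞) := by
      rw [← LocCoh.IsCohenMacaulayLocalRing.supportDim_eq_depth, Module.supportDim_self_eq_ringKrullDim,
        hdim]
      rfl
    exact (WithBot.coe_injective h).ge
  obtain ⟨rs, hrs, hlen, hmem⟩ := exists_regular_pow hdepth N
  refine ⟨rs.map f, by simp [hlen], fun x hx => ?_, ?_⟩
  · obtain ⟨y, hy, rfl⟩ := List.mem_map.1 hx
    have hle : (IsLocalRing.maximalIdeal (MvPowerSeries (Fin n) Λ)).map f ≤
        IsLocalRing.maximalIdeal B := by
      rw [Ideal.map_le_iff_le_comap]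
      haveI : ((IsLocalRing.maximalIdeal B).comap
          (algebraMap (MvPowerSeries (Fin n) Λ) B)).IsMaximal :=
        Ideal.isMaximal_comap_of_isIntegral_of_isMaximal _
      exact (IsLocalRing.eq_maximalIdeal this).ge
    have := Ideal.mem_map_of_mem f (hmem y hy)
    rw [Ideal.map_pow] at this
    exact Ideal.pow_right_mono hle N this
  · have := regRingC_of_finite g hg c hcb rs [] (by simpa using hrs)
    rwa [Ideal.ofList_nil, Ideal.map_bot] at this

/-- A quotient of a complete Noetherian local ring is complete. -/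
theorem isAdicComplete_quotient {R : Type u} [CommRing R] [IsLocalRing R] [IsNoetherianRing R]
    [IsAdicComplete (IsLocalRing.maximalIdeal R) R] (P : Ideal R) [P.IsPrime] [IsLocalRing (R ⧸ P)] :
    IsAdicComplete (IsLocalRing.maximalIdeal (R ⧸ P)) (R ⧸ P) := by
  have h1 : IsAdicComplete (IsLocalRing.maximalIdeal R) (R ⧸ P) := by
    refine (Groth.Agent.S9605.result (IsLocalRing.maximalIdeal R) R P).2 ?_
    refine le_antisymm (le_iInf fun n => le_sup_left) fun x hx => ?_
    have hx' : (Ideal.Quotient.mk P x) ∈ (⨅ n : ℕ,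
        (IsLocalRing.maximalIdeal R).map (Ideal.Quotient.mk P) ^ n) := by
      rw [Submodule.mem_iInf]
      intro n
      rw [← Ideal.map_pow]
      obtain ⟨p, hp, q, hq, rfl⟩ := Submodule.mem_sup.1 ((Submodule.mem_iInf _).1 hx n)
      rw [map_add, Ideal.Quotient.eq_zero_iff_mem.2 hp, zero_add]
      exact Ideal.mem_map_of_mem _ (by simpa using hq)
    rw [Ideal.iInf_pow_eq_bot_of_isDomain _ ?_] at hx'
    · exact Ideal.Quotient.eq_zero_iff_mem.1 (Ideal.mem_bot.1 hx')
    · rw [IsLocalRing.map_maximalIdeal_of_surjective _ Ideal.Quotient.mk_surjective]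
      exact (IsLocalRing.maximalIdeal.isMaximal _).ne_top
  have he : (IsLocalRing.maximalIdeal R).map (algebraMap R (R ⧸ P)) =
      IsLocalRing.maximalIdeal (R ⧸ P) := by
    rw [Ideal.Quotient.algebraMap_eq]
    exact IsLocalRing.map_maximalIdeal_of_surjective _ Ideal.Quotient.mk_surjective
  rw [← he]
  exact (IsAdicComplete.map_algebraMap_iff (IsLocalRing.maximalIdeal R) (R ⧸ P)).2 h1

theorem exists_prime_quotient_dim (R : Type u) [CommRing R] [IsNoetherianRing R] [IsLocalRing R]
    (d : ℕ) (hd : ringKrullDim R = d) :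
    ∃ P : Ideal R, P.IsPrime ∧ ringKrullDim (R ⧸ P) = d := by
  have h : (d : WithBot ℕ∞) ≤ Order.krullDim (PrimeSpectrum R) := hd.ge
  obtain ⟨l, hl⟩ := Order.le_krullDim_iff.1 h
  refine ⟨l.head.asIdeal, l.head.2, le_antisymm (hd ▸ ringKrullDim_quotient_le _) ?_⟩
  rw [ringKrullDim_quotient]
  refine Order.le_krullDim_iff.2 ⟨⟨l.length, fun i => ⟨l i, ?_⟩, fun i => l.step i⟩, hl⟩
  rw [PrimeSpectrum.mem_zeroLocus]
  exact SetLike.coe_subset_coe.2 (LTSeries.head_le l i)

/-- The core of the new intersection theorem. -/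
theorem false_of_killed {A : Type u} [CommRing A] [IsLocalRing A] {B : Type u} [CommRing B]
    [IsLocalRing B] [Algebra A B] (F : ChainComplex (ModuleCat.{u} A) ℕ) (k : ℕ)
    (hbd : ∀ i, k < i → Limits.IsZero (F.X i)) (hfree : ∀ i, Module.Free A (F.X i))
    (hrad : IsLocalRing.maximalIdeal B ≤
      ((IsLocalRing.maximalIdeal A).map (algebraMap A B)).radical)
    (hB : (IsLocalRing.maximalIdeal B).FG) (N₀ : ℕ)
    (hhom : ∀ a ∈ IsLocalRing.maximalIdeal A ^ N₀, ∃ e : ℕ, Homot F (a ^ e))
    {c : B} {E n : ℕ} (hn : n ≤ k)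
    (hE : ∀ (M : ℕ → Type u) [∀ n, AddCommGroup (M n)] [∀ n, Module B (M n)]
      [∀ n, Module.Free B (M n)] (f : ∀ n, M n →ₗ[B] M (n + 1)),
      (∀ n (v : M n), f (n + 1) (f n v) = 0) →
      (∀ m ≤ n, ∃ N : ℕ, ∀ a ∈ IsLocalRing.maximalIdeal B ^ N, Kill f (⊥ : Ideal B) a m) →
      ExC f (⊥ : Ideal B) c E n)
    (φ : F.X (k - n) →ₗ[A] A) {z : F.X (k - n)} (hz : ∀ l, (F.d (k - n) l).hom z = 0)
    (hφz : φ z = 1) (hφ : ∀ w, φ ((F.d (k - n + 1) (k - n)).hom w) ∈ IsLocalRing.maximalIdeal A) :
    c ^ E ∈ (IsLocalRing.maximalIdeal A).map (algebraMap A B) := by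
  have hbd' : ∀ i, k < i → Limits.IsZero ((bc F B).X i) := fun i hi => bc_isZero F B (hbd i hi)
  haveI : ∀ m, Module.Free B ((bc F B).X (k - m)) := fun m => bc_free F B hfree _
  have hkill : ∀ m ≤ n, ∃ N : ℕ, ∀ a ∈ IsLocalRing.maximalIdeal B ^ N,
      Kill (fun m => ((bc F B).d (k - m) (k - (m + 1))).hom) (⊥ : Ideal B) a m := by
    intro m hm
    let Q : Ideal B :=
      { carrier := {b | ∀ v : (bc F B).X (k - m), (∀ l, ((bc F B).d (k - m) l).hom v = 0) →
          b • v ∈ LinearMap.range ((bc F B).d (k - m + 1) (k - m)).hom}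
        zero_mem' := fun v _ => by rw [zero_smul]; exact zero_mem _
        add_mem' := fun hp hq v hv => by rw [add_smul]; exact add_mem (hp v hv) (hq v hv)
        smul_mem' := fun b q hq v hv => by
          rw [smul_eq_mul, mul_smul]; exact Submodule.smul_mem _ _ (hq v hv) }
    have hQ : IsLocalRing.maximalIdeal B ≤ Q.radical := by
      refine hrad.trans ?_
      rw [Ideal.radical_le_radical_iff]
      intro b hb
      have hsub : (IsLocalRing.maximalIdeal A).map (algebraMap A B) ≤ Q.radical := by
        rw [Ideal.map_le_iff_le_comap]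
        intro a ha
        obtain ⟨e, he⟩ := hhom (a ^ N₀) (Ideal.pow_mem_pow ha N₀)
        refine ⟨N₀ * e, ?_⟩
        rw [← map_pow, pow_mul]
        exact fun v hv => bc_kill F B he (k - m) v hv
      exact hsub hb
    obtain ⟨N, hN⟩ := Ideal.exists_pow_le_of_le_radical_of_fg hQ hB
    refine ⟨N, fun a ha v hv => ?_⟩
    rw [Submodule.bot_smul, Submodule.mem_bot] at hv
    rw [Submodule.bot_smul, sup_bot_eq, chain_bd _ k hbd' m (by omega), ChainComplex.prev]
    refine hN ha v fun l => ?_
    by_cases hl : (ComplexShape.down ℕ).Rel (k - m) l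
    · rw [← (ComplexShape.down ℕ).next_eq' hl, chain_next]; exact hv
    · rw [(bc F B).shape _ l hl]; rfl
  have hex := hE (fun m => (bc F B).X (k - m)) (fun m => ((bc F B).d (k - m) (k - (m + 1))).hom)
    (chain_ff (bc F B) k) hkill
  obtain ⟨v, χ, hv, hχv, hχ⟩ := bc_witness F B φ hz hφz hφ
  have h1 := hex v (by rw [Submodule.bot_smul, Submodule.mem_bot]; exact hv _)
  rw [Submodule.bot_smul, sup_bot_eq, chain_bd _ k hbd' n hn, ChainComplex.prev] at h1
  obtain ⟨w, hw⟩ := h1
  have h2 := hχ w
  rw [hw, map_smul, hχv, smul_eq_mul, mul_one] at h2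
  exact h2

/-- The new intersection theorem in characteristic `p`. -/
theorem new_intersection_charP (A : Type u) [CommRing A] [IsNoetherianRing A] [IsLocalRing A]
    (p : ℕ) [Fact p.Prime] [CharP A p]
    (F : ChainComplex (ModuleCat.{u} A) ℕ) (k : ℕ)
    (hbd : ∀ i, k < i → Limits.IsZero (F.X i))
    (hfree : ∀ i, Module.Free A (F.X i) ∧ Module.Finite A (F.X i))
    (hfl : ∀ i, IsFiniteLength A (F.homology i)) (hne : ∃ i, ¬ Limits.IsZero (F.homology i)) :
    ringKrullDim A ≤ (k : WithBot ℕ∞) := by
  classical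
  by_contra hcon
  rw [not_le] at hcon
  obtain ⟨i, φ, z, hi, hz, hφz, hφ⟩ := exists_witness F hfree hne
  have hik : i ≤ k := by
    by_contra h
    refine hi ((exact_iff F i).2 fun v _ => ?_)
    haveI := ModuleCat.subsingleton_of_isZero (hbd i (by omega))
    exact Subsingleton.elim v 0 ▸ zero_mem _
  obtain ⟨d, hd⟩ : ∃ d : ℕ, ringKrullDim A = d := by
    have hne' : ringKrullDim A ≠ ⊤ := ringKrullDim_ne_top
    revert hcon hne'
    generalize ringKrullDim A = x
    intro hcon hne'
    induction x using WithBot.recBotCoe with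
    | bot => exact absurd hcon (not_lt_bot)
    | coe x =>
      induction x using ENat.recTopCoe with
      | top => exact absurd rfl hne'
      | coe d => exact ⟨d, rfl⟩
  rw [hd, Nat.cast_lt] at hcon
  -- a common exponent killing homology
  choose Ns hNs using fun j => exists_kill' F (j + 1) j ((ComplexShape.down ℕ).next j)
    (ChainComplex.prev ℕ j) rfl (hfl j)
  let N₀ := (Finset.range (k + 1)).sup Ns
  have hhom : ∀ a ∈ IsLocalRing.maximalIdeal A ^ N₀, ∃ e : ℕ, Homot F (a ^ e) := fun a ha =>
    exists_homot F k hbd (fun j => (hfree j).1) a fun j v hv => by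
      rcases le_or_gt j k with hj | hj
      · exact hNs j a (Ideal.pow_le_pow_right
          (Finset.le_sup (f := Ns) (Finset.mem_range.2 (Nat.lt_succ_of_le hj))) ha) v (hv _)
      · haveI := ModuleCat.subsingleton_of_isZero (hbd j hj)
        exact Subsingleton.elim (a • v) 0 ▸ zero_mem _
  -- pass to a complete domain
  let C := AdicCompletion (IsLocalRing.maximalIdeal A) A
  haveI : IsNoetherianRing C :=
    Groth.Agent.RegLoc.Completion.isNoetherianRing_adicCompletion' _
  obtain ⟨P, hP, hPd⟩ := exists_prime_quotient_dim C d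
    ((Groth.Agent.RegLoc.Completion.ringKrullDim_completion A).trans hd)
  let B := C ⧸ P
  haveI : IsLocalRing B := .of_surjective' (Ideal.Quotient.mk P) Ideal.Quotient.mk_surjective
  haveI : IsAdicComplete (IsLocalRing.maximalIdeal C) C := inferInstance
  haveI : IsAdicComplete (IsLocalRing.maximalIdeal B) B := isAdicComplete_quotient P
  obtain ⟨c, hc, hseq⟩ := exists_regRingC B d hPd
  obtain ⟨E, hE⟩ := exists_exC c d hseq (k - i)
  have hmB : (IsLocalRing.maximalIdeal A).map ((Ideal.Quotient.mk P).comp (algebraMap A C)) =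
      IsLocalRing.maximalIdeal B := by
    rw [← Ideal.map_map, ← AdicCompletion.maximalIdeal_eq_map,
      IsLocalRing.map_maximalIdeal_of_surjective _ Ideal.Quotient.mk_surjective]
  haveI : CharP B p := by
    have := charP_of_injective_algebraMap' (ZMod p) p (A := ZMod p)
    exact (CharP.charP_iff_prime_eq_zero Fact.out).2 (by
      rw [← map_natCast ((Ideal.Quotient.mk P).comp (algebraMap A C)), CharP.cast_eq_zero, map_zero])
  haveI : ExpChar B p := ExpChar.prime Fact.out
  have hcE : c ^ E ∈ ⨅ q : ℕ, IsLocalRing.maximalIdeal B ^ q := by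
    rw [Submodule.mem_iInf]
    intro q
    let ψ : A →+* B := (iterateFrobenius B p q).comp ((Ideal.Quotient.mk P).comp (algebraMap A C))
    have hψ : (IsLocalRing.maximalIdeal A).map ψ =
        (IsLocalRing.maximalIdeal B).map (iterateFrobenius B p q) := by
      rw [← hmB, Ideal.map_map]
    have hle : (IsLocalRing.maximalIdeal B).map (iterateFrobenius B p q) ≤
        IsLocalRing.maximalIdeal B ^ q := by
      rw [Ideal.map_le_iff_le_comap]
      intro b hb
      rw [Ideal.mem_comap, iterateFrobenius_def]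
      exact Ideal.pow_le_pow_right (Nat.lt_pow_self (Fact.out : p.Prime).one_lt).le
        (Ideal.pow_mem_pow hb _)
    have hrad : IsLocalRing.maximalIdeal B ≤ ((IsLocalRing.maximalIdeal A).map ψ).radical := by
      intro b hb
      refine ⟨p ^ q, ?_⟩
      rw [hψ, ← iterateFrobenius_def]
      exact Ideal.mem_map_of_mem _ hb
    refine hle (hψ ▸ ?_)
    have hsub : k - (k - i) = i := by omega
    revert φ z
    rw [← hsub]
    intro φ z hz hφz hφ
    letI : Algebra A B := ψ.toAlgebra
    exact false_of_killed F k hbd (fun j => (hfree j).1) hrad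
      (IsNoetherian.noetherian _) N₀ hhom (n := k - i) (by omega) (hE (by omega)) φ hz hφz hφ
  rw [Ideal.iInf_pow_eq_bot_of_isLocalRing _ (IsLocalRing.maximalIdeal.isMaximal B).ne_top] at hcE
  exact pow_ne_zero E hc (Ideal.mem_bot.1 hcE)

end Groth.Agent.LocAlgCx
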