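import Groth.Agent.Depth.Local
import Groth.Agent.S5776
import Mathlib.RingTheory.Regular.RegularSequence
import Mathlib.LinearAlgebra.Basis.VectorSpace
import Mathlib.RingTheory.FiniteLength
import Mathlib.RingTheory.Nakayama

/-!
# Vanishing and non-vanishing of the homology of complexes of free modules via regular sequences

Elementary versions of the acyclicity lemma for a sequence `M 0 → M 1 → …` of free modules.
-/

set_option autoImplicit false

universe u

open RingTheory.Sequence

namespace Groth.Agent.LocAlgCx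

variable {R : Type u} [CommRing R] {M : ℕ → Type u} [∀ n, AddCommGroup (M n)]
  [∀ n, Module R (M n)] (f : ∀ n, M n →ₗ[R] M (n + 1))

/-- Boundaries. -/
def bd : ∀ n, Submodule R (M n)
  | 0 => ⊥
  | n + 1 => LinearMap.range (f n)

/-- Exactness modulo an ideal at one spot. -/
def Ex (J : Ideal R) (n : ℕ) : Prop :=
  ∀ v : M n, f n v ∈ J • (⊤ : Submodule R (M (n + 1))) → v ∈ bd f n ⊔ J • ⊤

/-- `a` kills the homology modulo `J` at one spot. -/
def Kill (J : Ideal R) (a : R) (n : ℕ) : Prop :=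
  ∀ v : M n, f n v ∈ J • (⊤ : Submodule R (M (n + 1))) → a • v ∈ bd f n ⊔ J • ⊤

/-- `x` is regular modulo `J` on all the terms. -/
def RegOn (M : ℕ → Type u) [∀ n, AddCommGroup (M n)] [∀ n, Module R (M n)] (J : Ideal R) (x : R) :
    Prop :=
  ∀ (n : ℕ) (z : M n), x • z ∈ J • (⊤ : Submodule R (M n)) → z ∈ J • (⊤ : Submodule R (M n))

/-- A regular sequence modulo `J` on all the terms. -/
def RegList (M : ℕ → Type u) [∀ n, AddCommGroup (M n)] [∀ n, Module R (M n)] :
    Ideal R → List R → Prop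
  | _, [] => True
  | J, x :: rs => RegOn M J x ∧ RegList M (J ⊔ Ideal.span {x}) rs

theorem mem_sup_span {P : Type u} [AddCommGroup P] [Module R P] {J : Ideal R} {x : R} {z : P}
    (h : z ∈ (J ⊔ Ideal.span {x}) • (⊤ : Submodule R P)) :
    ∃ j ∈ J • (⊤ : Submodule R P), ∃ w : P, z = j + x • w := by
  rw [Submodule.sup_smul, Submodule.mem_sup] at h
  obtain ⟨j, hj, y, hy, rfl⟩ := h
  rw [Submodule.ideal_span_singleton_smul, Submodule.mem_smul_pointwise_iff_exists] at hy
  obtain ⟨w, -, rfl⟩ := hy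
  exact ⟨j, hj, w, rfl⟩

theorem smul_mem_sup_span {P : Type u} [AddCommGroup P] [Module R P] (J : Ideal R) (x : R) (w : P) :
    x • w ∈ (J ⊔ Ideal.span {x}) • (⊤ : Submodule R P) :=
  Submodule.smul_mem_smul (Ideal.mem_sup_right (Ideal.mem_span_singleton_self x)) trivial

theorem map_smul_top {P Q : Type u} [AddCommGroup P] [Module R P] [AddCommGroup Q] [Module R Q]
    (g : P →ₗ[R] Q) {J : Ideal R} {z : P} (h : z ∈ J • (⊤ : Submodule R P)) :
    g z ∈ J • (⊤ : Submodule R Q) :=
  Submodule.smul_mono le_rfl le_top (Submodule.map_smul'' J ⊤ g ▸ Submodule.mem_map_of_mem h)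

variable (hf : ∀ n (v : M n), f (n + 1) (f n v) = 0)

include hf in
theorem f_bd (n : ℕ) {b : M n} (hb : b ∈ bd f n) : f n b = 0 := by
  cases n with
  | zero => rw [(Submodule.mem_bot R).1 hb, map_zero]
  | succ n => obtain ⟨u, rfl⟩ := hb; exact hf n u

include hf in
theorem f_mem_of_sup (n : ℕ) {J : Ideal R} {v : M n} (h : v ∈ bd f n ⊔ J • ⊤) :
    f n v ∈ J • (⊤ : Submodule R (M (n + 1))) := by
  obtain ⟨b, hb, j, hj, rfl⟩ := Submodule.mem_sup.1 h
  rw [map_add, f_bd f hf n hb, zero_add]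
  exact map_smul_top _ hj

include hf in
theorem lift_mod {J : Ideal R} {x : R} (hx : RegOn M J x) (n : ℕ) {v : M n}
    (hv : f n v ∈ (J ⊔ Ideal.span {x}) • (⊤ : Submodule R (M (n + 1)))) :
    ∃ j ∈ J • (⊤ : Submodule R (M (n + 1))), ∃ w, f n v = j + x • w ∧
      f (n + 1) w ∈ J • (⊤ : Submodule R (M (n + 1 + 1))) := by
  obtain ⟨j, hj, w, hw⟩ := mem_sup_span hv
  refine ⟨j, hj, w, hw, hx _ _ ?_⟩
  have := congrArg (f (n + 1)) hw
  rw [hf, map_add, map_smul] at this
  rw [eq_neg_of_add_eq_zero_right this.symm]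
  exact neg_mem (map_smul_top _ hj)

theorem sup_mono {J : Ideal R} (x : R) {n : ℕ} {v : M n} (h : v ∈ bd f n ⊔ J • ⊤) :
    v ∈ bd f n ⊔ (J ⊔ Ideal.span {x}) • ⊤ := by
  obtain ⟨b, hb, j, hj, rfl⟩ := Submodule.mem_sup.1 h
  exact Submodule.mem_sup.2 ⟨b, hb, j, Submodule.smul_mono_left le_sup_left hj, rfl⟩

include hf in
theorem ex_step {J : Ideal R} {x : R} (hx : RegOn M J x) (n : ℕ) (h : Ex f J n)
    (h' : Ex f J (n + 1)) : Ex f (J ⊔ Ideal.span {x}) n := by
  intro v hv
  obtain ⟨j, hj, w, hw, hfw⟩ := lift_mod f hf hx n hv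
  obtain ⟨-, ⟨u, rfl⟩, j2, hj2, rfl⟩ := Submodule.mem_sup.1 (h' w hfw)
  have hk : f n (v - x • u) ∈ J • (⊤ : Submodule R (M (n + 1))) := by
    rw [map_sub, map_smul, hw, smul_add, add_comm j, add_assoc, add_sub_cancel_left]
    exact add_mem (Submodule.smul_mem _ x hj2) hj
  rw [← sub_add_cancel v (x • u)]
  exact add_mem (sup_mono (f := f) x (h _ hk))
    (Submodule.mem_sup_right (smul_mem_sup_span J x u))

include hf in
theorem ex_list : ∀ (rs : List R) (J : Ideal R), RegList M J rs →
    ∀ n, (∀ m, n ≤ m → m ≤ n + rs.length → Ex f J m) → Ex f (J ⊔ Ideal.ofList rs) n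
  | [], J, _, n, h => by
    rw [Ideal.ofList_nil, sup_bot_eq]; exact h n le_rfl (Nat.le_add_right _ _)
  | x :: rs, J, hr, n, h => by
    rw [Ideal.ofList_cons, ← sup_assoc]
    refine ex_list rs _ hr.2 n fun m hnm hm => ex_step f hf hr.1 m (h m hnm ?_) (h (m + 1) ?_ ?_) <;>
      (simp only [List.length_cons] at *; omega)

include hf in
theorem ex_of_kill : ∀ (n : ℕ) (J : Ideal R) (rs : List R), RegList M J rs → n < rs.length →
    (∀ m < n, Ex f J m) → (∀ a ∈ rs, Kill f J a n) → Ex f J n := by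
  intro n
  induction n with
  | zero =>
    intro J rs hr hlen _ hk v hv
    match rs, hr, hlen, hk with
    | x :: _, hr, _, hk =>
      have := hk x List.mem_cons_self v hv
      rw [bd, bot_sup_eq] at this ⊢
      exact hr.1 _ _ this
  | succ n ih =>
    intro J rs hr hlen hex hk
    match rs, hr, hlen, hk with
    | x :: rs', hr, hlen, hk =>
      have hJ' : ∀ m < n, Ex f (J ⊔ Ideal.span {x}) m := fun m hm =>
        ex_step f hf hr.1 m (hex m (by omega)) (hex (m + 1) (by omega))
      have hk' : ∀ a ∈ rs', Kill f (J ⊔ Ideal.span {x}) a n := by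
        intro a ha v hv
        obtain ⟨j, hj, w, hw, hfw⟩ := lift_mod f hf hr.1 n hv
        obtain ⟨-, ⟨u, rfl⟩, j2, hj2, he⟩ :=
          Submodule.mem_sup.1 (hk a (List.mem_cons_of_mem _ ha) w hfw)
        have hk'' : f n (a • v - x • u) ∈ J • (⊤ : Submodule R (M (n + 1))) := by
          have : f n (a • v - x • u) = a • j + x • j2 := by
            rw [map_sub, map_smul, map_smul, hw, smul_add, smul_comm a x w, ← he, smul_add]
            abel
          rw [this]
          exact add_mem (Submodule.smul_mem _ a hj) (Submodule.smul_mem _ x hj2)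
        rw [← sub_add_cancel (a • v) (x • u)]
        exact add_mem (sup_mono (f := f) x
          (hex n (by omega) _ hk'')) (Submodule.mem_sup_right (smul_mem_sup_span J x u))
      have hn : Ex f (J ⊔ Ideal.span {x}) n :=
        ih _ rs' hr.2 (by simp only [List.length_cons] at hlen; omega) hJ' hk'
      intro z hz
      obtain ⟨-, ⟨u, rfl⟩, j, hj, he⟩ := Submodule.mem_sup.1 (hk x List.mem_cons_self z hz)
      have hu : f n u ∈ (J ⊔ Ideal.span {x}) • (⊤ : Submodule R (M (n + 1))) := by
        rw [eq_sub_of_add_eq he]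
        exact sub_mem (smul_mem_sup_span J x z) (Submodule.smul_mono_left le_sup_left hj)
      obtain ⟨b, hb, q, hq, rfl⟩ := Submodule.mem_sup.1 (hn u hu)
      obtain ⟨j3, hj3, s, rfl⟩ := mem_sup_span hq
      have hxs : x • (z - f n s) ∈ J • (⊤ : Submodule R (M (n + 1))) := by
        have : x • (z - f n s) = f n j3 + j := by
          rw [smul_sub, ← he, map_add, f_bd f hf n hb, zero_add, map_add, map_smul]
          abel
        rw [this]
        exact add_mem (map_smul_top _ hj3) hj
      rw [← add_sub_cancel (f n s) z]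
      exact add_mem (Submodule.mem_sup_left ⟨s, rfl⟩) (Submodule.mem_sup_right (hr.1 _ _ hxs))

omit [∀ n, AddCommGroup (M n)] in
theorem mem_smul_top_of_coord {P : Type u} [AddCommGroup P] [Module R P] {ι : Type u}
    (b : Module.Basis ι R P) {J : Ideal R} {z : P} (h : ∀ i, b.repr z i ∈ J) :
    z ∈ J • (⊤ : Submodule R P) := by
  rw [← b.linearCombination_repr z, Finsupp.linearCombination_apply]
  exact Submodule.sum_mem _ fun i _ => Submodule.smul_mem_smul (h i) trivial

omit [∀ n, AddCommGroup (M n)] in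
theorem coord_mem {P : Type u} [AddCommGroup P] [Module R P] {ι : Type u}
    (b : Module.Basis ι R P) {J : Ideal R} {z : P} (h : z ∈ J • (⊤ : Submodule R P)) (i : ι) :
    b.repr z i ∈ J := by
  have := map_smul_top (b.coord i) h
  simpa [Ideal.mul_top] using this

theorem regList_of_isWeaklyRegular [∀ n, Module.Free R (M n)] :
    ∀ (r₂ r₁ : List R), IsWeaklyRegular R (r₁ ++ r₂) → RegList M (Ideal.ofList r₁) r₂
  | [], _, _ => trivial
  | x :: r₂, r₁, h => by
    refine ⟨fun n z hz => ?_, ?_⟩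
    · have h2 := ((isWeaklyRegular_append_iff R r₁ (x :: r₂)).1 h).2
      rw [isWeaklyRegular_cons_iff, isSMulRegular_quotient_iff_mem_of_smul_mem] at h2
      let b := Module.Free.chooseBasis R (M n)
      refine mem_smul_top_of_coord b fun i => ?_
      have := h2.1 (b.repr z i)
      simp only [smul_eq_mul, Ideal.mul_top] at this
      exact this (by simpa using coord_mem b hz i)
    · have := regList_of_isWeaklyRegular r₂ (r₁ ++ [x]) (by simpa using h)
      rwa [Ideal.ofList_append, Ideal.ofList_singleton] at this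

theorem regList [∀ n, Module.Free R (M n)] {rs : List R} (h : IsWeaklyRegular R rs) :
    RegList M (⊥ : Ideal R) rs := by
  have := regList_of_isWeaklyRegular (M := M) rs [] (by simpa using h)
  rwa [Ideal.ofList_nil] at this

theorem exists_regular_pow [IsLocalRing R] {d : ℕ} (hd : (d : ℕ∞) ≤ LocCoh.depth R R) (N : ℕ) :
    ∃ rs : List R, IsWeaklyRegular R rs ∧ rs.length = d ∧
      ∀ r ∈ rs, r ∈ IsLocalRing.maximalIdeal R ^ N := by
  obtain ⟨rs, hrs, hm, hlen⟩ := Depth.exists_isWeaklyRegular_of_le_idealDepth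
    (I := IsLocalRing.maximalIdeal R) (M := R) (Depth.smul_top_ne_top_of_le_maximalIdeal le_rfl) hd
  refine ⟨List.ofFn fun i : Fin rs.length => rs.get i ^ (N + 1),
    Groth.Agent.S5776.result R R rs.length rs.get (fun _ => N + 1) (fun _ => Nat.le_add_left 1 N)
      (by rw [List.ofFn_get]; exact hrs), by simp [hlen], fun r hr => ?_⟩
  obtain ⟨i, rfl⟩ := List.mem_ofFn.1 hr
  exact Ideal.pow_le_pow_right (Nat.le_succ N) (Ideal.pow_mem_pow (hm _ (List.get_mem rs i)) _)

include hf in
/-- Acyclicity: below the depth, homology killed by powers of the maximal ideal vanishes. -/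
theorem ex_of_depth [IsLocalRing R] [∀ n, Module.Free R (M n)] (n : ℕ) :
    ((n + 1 : ℕ) : ℕ∞) ≤ LocCoh.depth R R →
    (∀ m ≤ n, ∃ N : ℕ, ∀ a ∈ IsLocalRing.maximalIdeal R ^ N, Kill f (⊥ : Ideal R) a m) →
    Ex f (⊥ : Ideal R) n := by
  induction n using Nat.strong_induction_on with
  | _ n ih =>
    intro hd hk
    obtain ⟨N, hN⟩ := hk n le_rfl
    obtain ⟨rs, hrs, hlen, hmem⟩ := exists_regular_pow hd N
    refine ex_of_kill f hf n ⊥ rs (regList hrs) (by omega) (fun m hm => ?_) fun a ha => hN a (hmem a ha)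
    exact ih m hm (le_trans (by exact_mod_cast (by omega : m + 1 ≤ n + 1)) hd)
      fun l hl => hk l (by omega)

theorem exists_socle [IsLocalRing R] [IsNoetherianRing R] {d : ℕ} (hd : LocCoh.depth R R = d) :
    ∃ rs : List R, IsWeaklyRegular R rs ∧ rs.length = d ∧
      ∃ y ∉ Ideal.ofList rs, ∀ a ∈ IsLocalRing.maximalIdeal R, a * y ∈ Ideal.ofList rs := by
  obtain ⟨rs, hrs, hm, hlen⟩ := Depth.exists_isWeaklyRegular_of_le_idealDepth
    (I := IsLocalRing.maximalIdeal R) (M := R) (n := d)
    (Depth.smul_top_ne_top_of_le_maximalIdeal le_rfl) hd.ge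
  refine ⟨rs, hrs, hlen, ?_⟩
  have h := Depth.idealDepth_quotient_add_length rs R hrs hm
  rw [hlen] at h
  have h0 : LocCoh.idealDepth (IsLocalRing.maximalIdeal R)
      (R ⧸ (Ideal.ofList rs • ⊤ : Submodule R R)) = 0 := by
    have h' := h.trans hd
    revert h'
    generalize LocCoh.idealDepth (IsLocalRing.maximalIdeal R)
      (R ⧸ (Ideal.ofList rs • ⊤ : Submodule R R)) = q
    intro h'
    induction q using ENat.recTopCoe with
    | top => simp at h'
    | coe m =>
      have : m + d = d := by exact_mod_cast h'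
      have hm0 : m = 0 := by omega
      simp [hm0]
  obtain ⟨p, hp, hle⟩ := Depth.idealDepth_eq_zero_iff.1 h0
  obtain ⟨hpp, z, hz⟩ := isAssociatedPrime_iff_exists_injective_linearMap _ _ |>.1 hp
  obtain ⟨y, hy⟩ := Submodule.Quotient.mk_surjective _ (z (Ideal.Quotient.mk p 1))
  refine ⟨y, fun hyJ => ?_, fun a ha => ?_⟩
  · have h1 : z (Ideal.Quotient.mk p 1) = 0 := by
      rw [← hy, Submodule.Quotient.mk_eq_zero]; simpa [Ideal.mul_top] using hyJ
    rw [← map_zero z] at h1
    exact hpp.ne_top ((Ideal.eq_top_iff_one p).2 (Ideal.Quotient.eq_zero_iff_mem.1 (hz h1)))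
  · have h1 : Ideal.Quotient.mk p a = 0 := Ideal.Quotient.eq_zero_iff_mem.2 (hle ha)
    have h2 : (Submodule.Quotient.mk (a * y) : R ⧸ (Ideal.ofList rs • ⊤ : Submodule R R)) = 0 := by
      rw [← smul_eq_mul, Submodule.Quotient.mk_smul, hy, ← map_smul, ← map_zero z]
      congr 1
      rw [Algebra.smul_def, Ideal.Quotient.algebraMap_eq, map_one, mul_one, h1]
    rw [Submodule.Quotient.mk_eq_zero] at h2
    simpa [Ideal.mul_top] using h2

include hf in
/-- If the first differential is minimal, exactness cannot hold through the depth. -/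
theorem not_ex_of_minimal [IsLocalRing R] [IsNoetherianRing R] [∀ n, Module.Free R (M n)]
    [Nontrivial (M 0)] {d : ℕ} (hd : LocCoh.depth R R = d)
    (hmin : LinearMap.range (f 0) ≤ IsLocalRing.maximalIdeal R • ⊤) :
    ∃ n ≤ d, ¬ Ex f (⊥ : Ideal R) n := by
  by_contra hc
  push Not at hc
  obtain ⟨rs, hrs, hlen, y, hy, hay⟩ := exists_socle hd
  have h0 := ex_list f hf rs ⊥ (regList hrs) 0 fun m _ hm => hc m (by omega)
  rw [bot_sup_eq] at h0
  let b := Module.Free.chooseBasis R (M 0)
  obtain ⟨i⟩ := b.index_nonempty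
  have hmem : f 0 (y • b i) ∈ Ideal.ofList rs • (⊤ : Submodule R (M 1)) := by
    rw [map_smul]
    refine Submodule.smul_induction_on (hmin ⟨b i, rfl⟩) (fun a ha w _ => ?_) fun p q hp hq => ?_
    · rw [smul_smul, mul_comm]
      exact Submodule.smul_mem_smul (hay a ha) trivial
    · rw [smul_add]; exact add_mem hp hq
  have := h0 _ hmem
  rw [bd, bot_sup_eq] at this
  exact hy (by simpa using coord_mem b this i)

end Groth.Agent.LocAlgCx
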