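import Groth.Agent.LocAlgCx.Acyclic
import Mathlib.LinearAlgebra.StdBasis

/-!
# Uniform annihilation of homology below the dimension

A variant of the acyclicity lemma where regular sequences are replaced by sequences that are regular
up to a fixed multiplier `c`: the homology is then killed by a power of `c` that does not depend on
the complex.
-/

set_option autoImplicit false

universe u

open RingTheory.Sequence

namespace Groth.Agent.LocAlgCx

section Abstract

variable {R : Type u} [CommRing R] {M : ℕ → Type u} [∀ n, AddCommGroup (M n)]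
  [∀ n, Module R (M n)] (f : ∀ n, M n →ₗ[R] M (n + 1))

/-- Exactness modulo `J` up to `c ^ e`. -/
def ExC (J : Ideal R) (c : R) (e n : ℕ) : Prop :=
  ∀ v : M n, f n v ∈ J • (⊤ : Submodule R (M (n + 1))) → c ^ e • v ∈ bd f n ⊔ J • ⊤

/-- `a * c ^ e` kills homology modulo `J`. -/
def KillC (J : Ideal R) (a c : R) (e n : ℕ) : Prop :=
  ∀ v : M n, f n v ∈ J • (⊤ : Submodule R (M (n + 1))) → (a * c ^ e) • v ∈ bd f n ⊔ J • ⊤

/-- `x` is regular up to `c` modulo `J` on all terms. -/
def RegOnC (M : ℕ → Type u) [∀ n, AddCommGroup (M n)] [∀ n, Module R (M n)] (J : Ideal R) (c x : R) :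
    Prop :=
  ∀ (n : ℕ) (z : M n), x • z ∈ J • (⊤ : Submodule R (M n)) → c • z ∈ J • (⊤ : Submodule R (M n))

/-- A sequence regular up to `c`. -/
def RegListC (M : ℕ → Type u) [∀ n, AddCommGroup (M n)] [∀ n, Module R (M n)] :
    Ideal R → R → List R → Prop
  | _, _, [] => True
  | J, c, x :: rs => RegOnC M J c x ∧ RegListC M (J ⊔ Ideal.span {x}) c rs

/-- The exponent in `exC_of_kill`. -/
def expo : ℕ → ℕ → ℕ
  | 0, K => K + 1
  | n + 1, K => K + expo n (K + K + 1) + 1

variable (hf : ∀ n (v : M n), f (n + 1) (f n v) = 0)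

include hf in
theorem exC_step {J : Ideal R} {c x : R} (hx : RegOnC M J c x) (n e e' : ℕ) (h : ExC f J c e n)
    (h' : ExC f J c e' (n + 1)) : ExC f (J ⊔ Ideal.span {x}) c (e + e' + 1) n := by
  intro v hv
  obtain ⟨j, hj, w, hw⟩ := mem_sup_span hv
  have hfw : f (n + 1) (c • w) ∈ J • (⊤ : Submodule R (M (n + 1 + 1))) := by
    rw [map_smul]
    refine hx _ _ ?_
    have := congrArg (f (n + 1)) hw
    rw [hf, map_add, map_smul] at this
    rw [eq_neg_of_add_eq_zero_right this.symm]
    exact neg_mem (map_smul_top _ hj)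
  obtain ⟨-, ⟨u, rfl⟩, j2, hj2, he⟩ := Submodule.mem_sup.1 (h' _ hfw)
  rw [smul_smul, ← pow_succ] at he
  have hk : f n (c ^ (e' + 1) • v - x • u) ∈ J • (⊤ : Submodule R (M (n + 1))) := by
    have : f n (c ^ (e' + 1) • v - x • u) = c ^ (e' + 1) • j + x • j2 := by
      rw [map_sub, map_smul, map_smul, hw, smul_add, smul_comm (c ^ (e' + 1)) x w, ← he, smul_add]
      abel
    rw [this]
    exact add_mem (Submodule.smul_mem _ _ hj) (Submodule.smul_mem _ x hj2)
  have h1 := sup_mono (f := f) x (h _ hk)
  rw [smul_sub, smul_smul, ← pow_add, ← add_assoc, smul_comm (c ^ e) x u] at h1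
  rw [← sub_add_cancel (c ^ (e + e' + 1) • v) (x • c ^ e • u)]
  exact add_mem h1 (Submodule.mem_sup_right (smul_mem_sup_span J x _))

include hf in
theorem exC_of_kill : ∀ (n K : ℕ) (J : Ideal R) (c : R) (rs : List R),
    RegListC M J c rs → n < rs.length → (∀ m < n, ExC f J c K m) →
    (∀ a ∈ rs, KillC f J a c K n) → ExC f J c (expo n K) n := by
  intro n
  induction n with
  | zero =>
    intro K J c rs hr hlen _ hk v hv
    rw [expo]
    match rs, hr, hlen, hk with
    | x :: _, hr, _, hk =>
      have := hk x List.mem_cons_self v hv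
      rw [bd, bot_sup_eq] at this ⊢
      rw [mul_smul] at this
      rw [pow_succ', mul_smul]
      exact hr.1 _ _ this
  | succ n ih =>
    intro K J c rs hr hlen hex hk
    rw [expo]
    set G := expo n (K + K + 1)
    have hG := ih (K + K + 1)
    match rs, hr, hlen, hk with
    | x :: rs', hr, hlen, hk =>
      have hJ' : ∀ m < n, ExC f (J ⊔ Ideal.span {x}) c (K + K + 1) m := fun m hm =>
        exC_step f hf hr.1 m K K (hex m (by omega)) (hex (m + 1) (by omega))
      have hk' : ∀ a ∈ rs', KillC f (J ⊔ Ideal.span {x}) a c (K + K + 1) n := by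
        intro a ha v hv
        obtain ⟨j, hj, w, hw⟩ := mem_sup_span hv
        have hfw : f (n + 1) (c • w) ∈ J • (⊤ : Submodule R (M (n + 1 + 1))) := by
          rw [map_smul]
          refine hr.1 _ _ ?_
          have := congrArg (f (n + 1)) hw
          rw [hf, map_add, map_smul] at this
          rw [eq_neg_of_add_eq_zero_right this.symm]
          exact neg_mem (map_smul_top _ hj)
        obtain ⟨-, ⟨u, rfl⟩, j2, hj2, he⟩ :=
          Submodule.mem_sup.1 (hk a (List.mem_cons_of_mem _ ha) _ hfw)
        rw [smul_smul, mul_assoc, ← pow_succ] at he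
        have hk'' : f n ((a * c ^ (K + 1)) • v - x • u) ∈ J • (⊤ : Submodule R (M (n + 1))) := by
          have : f n ((a * c ^ (K + 1)) • v - x • u) = (a * c ^ (K + 1)) • j + x • j2 := by
            rw [map_sub, map_smul, map_smul, hw, smul_add, smul_comm (a * c ^ (K + 1)) x w, ← he,
              smul_add]
            abel
          rw [this]
          exact add_mem (Submodule.smul_mem _ _ hj) (Submodule.smul_mem _ x hj2)
        have h1 := sup_mono (f := f) x (hex n (by omega) _ hk'')
        rw [smul_sub, smul_smul, mul_left_comm, ← pow_add, ← add_assoc,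
          smul_comm (c ^ K) x u] at h1
        rw [← sub_add_cancel ((a * c ^ (K + K + 1)) • v) (x • c ^ K • u)]
        exact add_mem h1 (Submodule.mem_sup_right (smul_mem_sup_span J x _))
      have hn : ExC f (J ⊔ Ideal.span {x}) c G n :=
        hG _ c rs' hr.2 (by simp only [List.length_cons] at hlen; omega) hJ' hk'
      intro z hz
      obtain ⟨-, ⟨u, rfl⟩, j, hj, he⟩ := Submodule.mem_sup.1 (hk x List.mem_cons_self z hz)
      rw [mul_smul] at he
      have hu : f n u ∈ (J ⊔ Ideal.span {x}) • (⊤ : Submodule R (M (n + 1))) := by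
        rw [eq_sub_of_add_eq he]
        exact sub_mem (smul_mem_sup_span J x _) (Submodule.smul_mono_left le_sup_left hj)
      obtain ⟨b, hb, q, hq, hbq⟩ := Submodule.mem_sup.1 (hn u hu)
      obtain ⟨j3, hj3, s, rfl⟩ := mem_sup_span hq
      have hxs : x • (c ^ (K + G) • z - f n s) ∈ J • (⊤ : Submodule R (M (n + 1))) := by
        have h1 := congrArg (f n) hbq
        rw [map_add, f_bd f hf n hb, zero_add, map_add, map_smul, map_smul] at h1
        have : x • (c ^ (K + G) • z - f n s) = f n j3 + c ^ G • j := by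
          rw [smul_sub, pow_add, mul_comm (c ^ K), mul_smul, smul_comm x (c ^ G), ← he, smul_add, ← h1]
          abel
        rw [this]
        exact add_mem (map_smul_top _ hj3) (Submodule.smul_mem _ _ hj)
      have h2 := hr.1 _ _ hxs
      rw [smul_sub, smul_smul, ← pow_succ'] at h2
      rw [← add_sub_cancel (c • f n s) (c ^ (K + G + 1) • z)]
      exact add_mem (Submodule.mem_sup_left ⟨c • s, map_smul _ _ _⟩) (Submodule.mem_sup_right h2)

end Abstract

/-- A sequence of ring elements regular up to `c`. -/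
def RegRingC {R : Type u} [CommRing R] : Ideal R → R → List R → Prop
  | _, _, [] => True
  | J, c, x :: rs => (∀ z, x * z ∈ J → c * z ∈ J) ∧ RegRingC (J ⊔ Ideal.span {x}) c rs

theorem regListC {R : Type u} [CommRing R] (M : ℕ → Type u) [∀ n, AddCommGroup (M n)]
    [∀ n, Module R (M n)] [∀ n, Module.Free R (M n)] :
    ∀ (rs : List R) (J : Ideal R) (c : R), RegRingC J c rs → RegListC M J c rs
  | [], _, _, _ => trivial
  | x :: rs, J, c, h => by
    refine ⟨fun n z hz => ?_, regListC M rs _ c h.2⟩
    let b := Module.Free.chooseBasis R (M n)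
    refine mem_smul_top_of_coord b fun i => ?_
    have h1 := h.1 (b.repr z i)
    simpa using h1 (by simpa using coord_mem b hz i)

/-- Uniform annihilation: `d` is the length of the available sequences. -/
theorem exists_exC {R : Type u} [CommRing R] [IsLocalRing R] (c : R) (d : ℕ)
    (hseq : ∀ N : ℕ, ∃ rs : List R, rs.length = d ∧
      (∀ r ∈ rs, r ∈ IsLocalRing.maximalIdeal R ^ N) ∧ RegRingC ⊥ c rs) (n : ℕ) :
    ∃ E : ℕ, n < d → ∀ (M : ℕ → Type u) [∀ n, AddCommGroup (M n)] [∀ n, Module R (M n)]
      [∀ n, Module.Free R (M n)] (f : ∀ n, M n →ₗ[R] M (n + 1)),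
      (∀ n (v : M n), f (n + 1) (f n v) = 0) →
      (∀ m ≤ n, ∃ N : ℕ, ∀ a ∈ IsLocalRing.maximalIdeal R ^ N, Kill f (⊥ : Ideal R) a m) →
      ExC f (⊥ : Ideal R) c E n := by
  classical
  induction n using Nat.strong_induction_on with
  | _ n ih =>
    choose E hE using ih
    let K : ℕ := (Finset.range n).sup fun m => if h : m < n then E m h else 0
    refine ⟨expo n K, fun hnd M _ _ _ f hf hkill => ?_⟩
    obtain ⟨N, hN⟩ := hkill n le_rfl
    obtain ⟨rs, hlen, hmem, hreg⟩ := hseq N
    refine exC_of_kill f hf n K ⊥ c rs (regListC M rs ⊥ c hreg) (by omega) (fun m hm v hv => ?_)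
      (fun a ha v hv => ?_)
    · have h1 := hE m hm (by omega) M f hf (fun l hl => hkill l (by omega)) v hv
      have hle : E m hm ≤ K := by
        refine le_trans (le_of_eq ?_) (Finset.le_sup (f := fun m => if h : m < n then E m h else 0)
          (Finset.mem_range.2 hm))
        exact (dif_pos hm).symm
      rw [← Nat.sub_add_cancel hle, pow_add, mul_smul]
      exact Submodule.smul_mem _ _ h1
    · rw [mul_comm, mul_smul]
      exact Submodule.smul_mem _ _ (hN a (hmem a ha) v hv)

end Groth.Agent.LocAlgCx
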