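import Groth.Agent.LocAlgCx.Complex
import Groth.Agent.LocAlgCx.CAcyclic
import Mathlib.RingTheory.TensorProduct.Free
import Mathlib.LinearAlgebra.TensorProduct.Tower
import Mathlib.Algebra.Category.ModuleCat.Basic
import Mathlib.Algebra.Module.Projective

/-!
# Witnesses of non-exactness and annihilators of homology under change of rings
-/

set_option autoImplicit false

universe u

open CategoryTheory TensorProduct

namespace Groth.Agent.LocAlgCx

variable {A : Type u} [CommRing A] (F : ChainComplex (ModuleCat.{u} A) ℕ)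

theorem d_d (i j l : ℕ) (v : F.X i) : (F.d j l).hom ((F.d i j).hom v) = 0 :=
  congrArg (fun φ => φ.hom v) (F.d_comp_d i j l)

/-- Cycles in chain degree `j`. -/
theorem exact_iff (j : ℕ) :
    Limits.IsZero (F.homology j) ↔
      ∀ v, (∀ l, (F.d j l).hom v = 0) → v ∈ LinearMap.range (F.d (j + 1) j).hom := by
  rw [isZero_homology_iff' F (j + 1) j ((ComplexShape.down ℕ).next j) (ChainComplex.prev ℕ j) rfl]
  refine ⟨fun h v hv => h v (hv _), fun h v hv => h v fun l => ?_⟩
  by_cases hl : (ComplexShape.down ℕ).Rel j l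
  · rw [← (ComplexShape.down ℕ).next_eq' hl]; exact hv
  · rw [F.shape j l hl]; rfl

theorem cycle_of_next {j : ℕ} {v : F.X (j + 1)} (hv : (F.d (j + 1) j).hom v = 0) (l : ℕ) :
    (F.d (j + 1) l).hom v = 0 := by
  by_cases hl : (ComplexShape.down ℕ).Rel (j + 1) l
  · obtain rfl : l = j := by simpa using hl
    exact hv
  · rw [F.shape _ l hl]; rfl

/-- At the lowest non-exact degree there is a cycle not in the boundaries modulo the maximal ideal,
detected by a functional. -/
theorem exists_witness [IsLocalRing A] (hfree : ∀ i, Module.Free A (F.X i) ∧ Module.Finite A (F.X i))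
    (hne : ∃ i, ¬ Limits.IsZero (F.homology i)) :
    ∃ (i : ℕ) (φ : F.X i →ₗ[A] A) (z : F.X i), ¬ Limits.IsZero (F.homology i) ∧
      (∀ l, (F.d i l).hom z = 0) ∧ φ z = 1 ∧
      ∀ w, φ ((F.d (i + 1) i).hom w) ∈ IsLocalRing.maximalIdeal A := by
  classical
  let i := Nat.find hne
  haveI : ∀ j, Module.Free A (F.X j) := fun j => (hfree j).1
  haveI : ∀ j, Module.Finite A (F.X j) := fun j => (hfree j).2
  have hproj : ∀ j ≤ i, ∃ π : F.X j →ₗ[A] F.X j,
      (∀ v l, (F.d j l).hom (π v) = 0) ∧ ∀ v, (∀ l, (F.d j l).hom v = 0) → π v = v := by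
    intro j hj
    induction j with
    | zero =>
      exact ⟨LinearMap.id, fun v l => by rw [F.shape 0 l (by simp)]; rfl, fun v _ => rfl⟩
    | succ j ih =>
      obtain ⟨π, hπ, hπ'⟩ := ih (by omega)
      have hex := (exact_iff F j).1 (not_not.1 (Nat.find_min hne (by omega : j < i)))
      let Z : Submodule A (F.X j) := LinearMap.range (F.d (j + 1) j).hom
      obtain ⟨s, hs⟩ := Module.projective_lifting_property (LinearMap.rangeRestrict (F.d (j + 1) j).hom)
        (LinearMap.codRestrict Z π fun v => hex _ (hπ v)) (LinearMap.surjective_rangeRestrict _)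
      have hs' : ∀ v, (F.d (j + 1) j).hom (s v) = π v := fun v =>
        congrArg Subtype.val (LinearMap.congr_fun hs v)
      refine ⟨LinearMap.id - s.comp (F.d (j + 1) j).hom, fun v l => ?_, fun v hv => ?_⟩
      · refine cycle_of_next F ?_ l
        simp only [LinearMap.sub_apply, LinearMap.id_apply, LinearMap.comp_apply, map_sub, hs']
        rw [hπ' _ fun l => d_d F _ _ l v, sub_self]
      · simp [hv j]
  obtain ⟨π, hπ, hπ'⟩ := hproj i le_rfl
  let N : Submodule A (F.X i) :=
    LinearMap.range (F.d (i + 1) i).hom ⊔ IsLocalRing.maximalIdeal A • ⊤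
  obtain ⟨z, hz, hzN⟩ : ∃ z, (∀ l, (F.d i l).hom z = 0) ∧ z ∉ N := by
    by_contra hc
    push Not at hc
    refine Nat.find_spec hne ((exact_iff F i).2 fun v hv => ?_)
    have hfg : (LinearMap.range π).FG := by
      rw [LinearMap.range_eq_map]; exact Module.Finite.fg_top.map π
    have hle : LinearMap.range π ≤
        LinearMap.range (F.d (i + 1) i).hom ⊔ IsLocalRing.maximalIdeal A • LinearMap.range π := by
      rintro _ ⟨v, rfl⟩
      obtain ⟨_, ⟨w, rfl⟩, r, hr, he⟩ := Submodule.mem_sup.1 (hc (π v) (hπ v))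
      have h1 := congrArg π he
      rw [map_add, hπ' (π v) (hπ v), hπ' ((F.d (i + 1) i).hom w) fun l => d_d F _ _ l w] at h1
      rw [← h1]
      refine add_mem (Submodule.mem_sup_left ⟨w, rfl⟩) (Submodule.mem_sup_right ?_)
      have := Submodule.mem_map_of_mem (f := π) hr
      rwa [Submodule.map_smul'', Submodule.map_top] at this
    exact (Submodule.le_of_le_smul_of_le_jacobson_bot hfg
      (IsLocalRing.maximalIdeal_le_jacobson _) hle) ⟨v, hπ' v hv⟩
  have hm : Module.IsTorsionBySet A (F.X i ⧸ N) (IsLocalRing.maximalIdeal A) := by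
    intro x a
    obtain ⟨v, rfl⟩ := Submodule.Quotient.mk_surjective N x
    rw [← Submodule.Quotient.mk_smul, Submodule.Quotient.mk_eq_zero]
    exact Submodule.mem_sup_right (Submodule.smul_mem_smul a.2 trivial)
  letI : Module (IsLocalRing.ResidueField A) (F.X i ⧸ N) := hm.module
  haveI : IsScalarTower A (IsLocalRing.ResidueField A) (F.X i ⧸ N) := hm.isScalarTower
  have hne0 : (Submodule.Quotient.mk z : F.X i ⧸ N) ≠ 0 := by
    rw [Ne, Submodule.Quotient.mk_eq_zero]; exact hzN
  obtain ⟨χ, hχ⟩ : ∃ χ : Module.Dual (IsLocalRing.ResidueField A) (F.X i ⧸ N),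
      χ (Submodule.Quotient.mk z) ≠ 0 := by
    by_contra h
    push Not at h
    exact hne0 ((Module.forall_dual_apply_eq_zero_iff (IsLocalRing.ResidueField A) _).1 h)
  obtain ⟨φ, hφ⟩ := Module.projective_lifting_property
    (IsScalarTower.toAlgHom A A (IsLocalRing.ResidueField A)).toLinearMap
    ((χ.restrictScalars A).comp N.mkQ) IsLocalRing.residue_surjective
  have hφ' : ∀ v, IsLocalRing.residue A (φ v) = χ (Submodule.Quotient.mk v) := fun v =>
    LinearMap.congr_fun hφ v
  have hu : IsUnit (φ z) := by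
    by_contra hu
    exact hχ (by rw [← hφ' z]; exact (IsLocalRing.residue_eq_zero_iff _).2 hu)
  obtain ⟨u, hu⟩ := hu
  refine ⟨i, (↑u⁻¹ : A) • φ, z, Nat.find_spec hne, hz, ?_, fun w => ?_⟩
  · rw [LinearMap.smul_apply, smul_eq_mul, ← hu, Units.inv_mul]
  · rw [LinearMap.smul_apply, smul_eq_mul]
    refine Ideal.mul_mem_left _ _ ?_
    rw [← IsLocalRing.residue_eq_zero_iff, hφ', ← map_zero χ]
    congr 1
    rw [Submodule.Quotient.mk_eq_zero]
    exact Submodule.mem_sup_left ⟨w, rfl⟩

/-- A null homotopy of multiplication by `s`. -/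
def Homot (s : A) : Prop :=
  ∃ h : ∀ j, F.X j →ₗ[A] F.X (j + 1), (∀ v, (F.d 1 0).hom (h 0 v) = s • v) ∧
    ∀ j v, (F.d (j + 1 + 1) (j + 1)).hom (h (j + 1) v) + h j ((F.d (j + 1) j).hom v) = s • v

theorem exists_homot (k : ℕ) (hbd : ∀ i, k < i → Limits.IsZero (F.X i))
    (hfree : ∀ i, Module.Free A (F.X i)) (a : A)
    (ha : ∀ j v, (∀ l, (F.d j l).hom v = 0) → a • v ∈ LinearMap.range (F.d (j + 1) j).hom) :
    ∃ e : ℕ, Homot F (a ^ e) := by
  classical
  have key : ∀ n, ∃ (e : ℕ) (h : ∀ j, F.X j →ₗ[A] F.X (j + 1)),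
      (∀ v, (F.d 1 0).hom (h 0 v) = a ^ e • v) ∧
      ∀ j < n, ∀ v,
        (F.d (j + 1 + 1) (j + 1)).hom (h (j + 1) v) + h j ((F.d (j + 1) j).hom v) = a ^ e • v := by
    intro n
    induction n with
    | zero =>
      have h0 : ∀ v : F.X 0, a • v ∈ LinearMap.range (F.d 1 0).hom := fun v =>
        ha 0 v fun l => by rw [F.shape 0 l (by simp)]; rfl
      obtain ⟨g, hg⟩ := Module.projective_lifting_property (LinearMap.rangeRestrict (F.d 1 0).hom)
        (LinearMap.codRestrict _ (a • LinearMap.id) h0) (LinearMap.surjective_rangeRestrict _)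
      refine ⟨1, Function.update (fun j => 0) 0 g, fun v => ?_, fun j hj => absurd hj (Nat.not_lt_zero j)⟩
      rw [Function.update_self, pow_one]
      exact congrArg Subtype.val (LinearMap.congr_fun hg v)
    | succ n ih =>
      obtain ⟨e, h, h0, hs⟩ := ih
      have hn : ∀ v, (F.d (n + 1) n).hom (h n ((F.d (n + 1) n).hom v)) =
          a ^ e • (F.d (n + 1) n).hom v := by
        intro v
        rcases n with _ | n
        · exact h0 _
        · have := hs n (by omega) ((F.d (n + 1 + 1) (n + 1)).hom v)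
          rwa [d_d, map_zero, add_zero] at this
      have hlift : ∀ v : F.X (n + 1), a • (a ^ e • v - h n ((F.d (n + 1) n).hom v)) ∈
          LinearMap.range (F.d (n + 1 + 1) (n + 1)).hom := fun v =>
        ha _ _ fun l => cycle_of_next F (by rw [map_sub, map_smul, hn, sub_self]) l
      obtain ⟨g, hg⟩ := Module.projective_lifting_property
        (LinearMap.rangeRestrict (F.d (n + 1 + 1) (n + 1)).hom)
        (LinearMap.codRestrict _ (a • (a ^ e • LinearMap.id - (h n).comp (F.d (n + 1) n).hom)) hlift)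
        (LinearMap.surjective_rangeRestrict _)
      have hg' : ∀ v, (F.d (n + 1 + 1) (n + 1)).hom (g v) =
          a • (a ^ e • v - h n ((F.d (n + 1) n).hom v)) := fun v =>
        congrArg Subtype.val (LinearMap.congr_fun hg v)
      refine ⟨e + 1, Function.update (fun j => a • h j) (n + 1) g, fun v => ?_, fun j hj v => ?_⟩
      · rw [Function.update_of_ne (by omega), LinearMap.smul_apply, map_smul, h0, smul_smul, pow_succ']
      · rw [Function.update_of_ne (show j ≠ n + 1 by omega)]
        rcases Nat.lt_succ_iff_lt_or_eq.1 hj with hj | rfl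
        · rw [Function.update_of_ne (by omega), LinearMap.smul_apply, LinearMap.smul_apply, map_smul,
            ← smul_add, hs j hj, smul_smul, pow_succ']
        · rw [Function.update_self, hg', LinearMap.smul_apply, smul_sub, sub_add_cancel, smul_smul,
            pow_succ']
  obtain ⟨e, h, h0, hs⟩ := key k
  refine ⟨e, h, h0, fun j v => ?_⟩
  rcases lt_or_ge j k with hj | hj
  · exact hs j hj v
  · haveI := ModuleCat.subsingleton_of_isZero (hbd (j + 1) (by omega))
    exact Subsingleton.elim _ _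

variable (B : Type u) [CommRing B] [Algebra A B]

/-- The complex `B ⊗ F`. -/
noncomputable def bc : ChainComplex (ModuleCat.{u} B) ℕ :=
  ChainComplex.of (fun j => ModuleCat.of B (B ⊗[A] F.X j))
    (fun j => ModuleCat.ofHom ((F.d (j + 1) j).hom.baseChange B)) fun j => by
      rw [← ModuleCat.ofHom_comp, ← LinearMap.baseChange_comp, ← ModuleCat.hom_comp, F.d_comp_d,
        ModuleCat.hom_zero, LinearMap.baseChange_zero]
      rfl

theorem bc_d (j : ℕ) :
    ((bc F B).d (j + 1) j).hom = (F.d (j + 1) j).hom.baseChange B := by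
  have h := ChainComplex.of_d (fun j => ModuleCat.of B (B ⊗[A] F.X j))
    (fun j => ModuleCat.ofHom ((F.d (j + 1) j).hom.baseChange B)) j
  exact congrArg ModuleCat.Hom.hom h

theorem bc_isZero {i : ℕ} (h : Limits.IsZero (F.X i)) : Limits.IsZero ((bc F B).X i) := by
  haveI := ModuleCat.subsingleton_of_isZero h
  haveI : Subsingleton (B ⊗[A] F.X i) := inferInstance
  exact ModuleCat.isZero_of_subsingleton (ModuleCat.of B (B ⊗[A] F.X i))

theorem bc_free (hfree : ∀ i, Module.Free A (F.X i)) (i : ℕ) : Module.Free B ((bc F B).X i) := by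
  haveI := hfree i
  exact inferInstanceAs (Module.Free B (B ⊗[A] F.X i))

theorem baseChange_kill {s : A} (hs : Homot F s) (j : ℕ) (v : B ⊗[A] F.X j)
    (hv : ∀ l, j = l + 1 → (F.d j l).hom.baseChange B v = 0) :
    algebraMap A B s • v ∈ LinearMap.range ((F.d (j + 1) j).hom.baseChange B) := by
  obtain ⟨h, h0, hh⟩ := hs
  refine ⟨(h j).baseChange B v, ?_⟩
  rw [algebraMap_smul]
  rcases j with _ | j
  · rw [← LinearMap.comp_apply, ← LinearMap.baseChange_comp,
      show (F.d (0 + 1) 0).hom.comp (h 0) = s • LinearMap.id from LinearMap.ext h0,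
      LinearMap.baseChange_smul, LinearMap.baseChange_id]
    rfl
  · have h2 : (F.d (j + 1 + 1) (j + 1)).hom.comp (h (j + 1)) + (h j).comp (F.d (j + 1) j).hom =
        s • LinearMap.id := LinearMap.ext (hh j)
    have h3 := congrArg (fun f => f.baseChange B v) h2
    simp only [LinearMap.baseChange_add, LinearMap.baseChange_comp, LinearMap.baseChange_smul,
      LinearMap.baseChange_id, LinearMap.add_apply, LinearMap.comp_apply, hv j rfl, map_zero, add_zero,
      LinearMap.smul_apply, LinearMap.id_apply] at h3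
    exact h3

/-- A homotopy kills cycles modulo boundaries after change of rings. -/
theorem bc_kill {s : A} (hs : Homot F s) (j : ℕ) (v : (bc F B).X j)
    (hv : ∀ l, ((bc F B).d j l).hom v = 0) :
    algebraMap A B s • v ∈ LinearMap.range ((bc F B).d (j + 1) j).hom := by
  rw [bc_d]
  refine baseChange_kill F B hs j v ?_
  rintro l rfl
  have := hv l
  rw [bc_d] at this
  exact this

/-- The witness after change of rings. -/
theorem bc_witness {i : ℕ} (φ : F.X i →ₗ[A] A) {z : F.X i} (hz : ∀ l, (F.d i l).hom z = 0)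
    (hφz : φ z = 1) {I : Ideal A} (hφ : ∀ w, φ ((F.d (i + 1) i).hom w) ∈ I) :
    ∃ (v : (bc F B).X i) (χ : (bc F B).X i →ₗ[B] B), (∀ l, ((bc F B).d i l).hom v = 0) ∧ χ v = 1 ∧
      ∀ w, χ (((bc F B).d (i + 1) i).hom w) ∈ I.map (algebraMap A B) := by
  let χ : B ⊗[A] F.X i →ₗ[B] B :=
    (TensorProduct.AlgebraTensorModule.rid A B B).toLinearMap.comp (φ.baseChange B)
  refine ⟨((1 : B) ⊗ₜ[A] z : B ⊗[A] F.X i), χ, fun l => ?_, ?_, fun w => ?_⟩
  · rcases i with _ | i
    · rw [(bc F B).shape 0 l (by simp)]; rfl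
    · refine cycle_of_next (bc F B) ?_ l
      rw [bc_d]
      show (F.d (i + 1) i).hom.baseChange B ((1 : B) ⊗ₜ[A] z) = 0
      rw [LinearMap.baseChange_tmul, hz, TensorProduct.tmul_zero]
  · show (TensorProduct.AlgebraTensorModule.rid A B B) (φ.baseChange B ((1 : B) ⊗ₜ[A] z)) = 1
    rw [LinearMap.baseChange_tmul, hφz, TensorProduct.AlgebraTensorModule.rid_tmul, one_smul]
  · rw [bc_d]
    change B ⊗[A] F.X (i + 1) at w
    show χ ((F.d (i + 1) i).hom.baseChange B w) ∈ _
    induction w using TensorProduct.induction_on with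
    | zero => simp
    | tmul b x =>
      show (TensorProduct.AlgebraTensorModule.rid A B B)
        (φ.baseChange B ((F.d (i + 1) i).hom.baseChange B (b ⊗ₜ[A] x))) ∈ _
      rw [LinearMap.baseChange_tmul, LinearMap.baseChange_tmul,
        TensorProduct.AlgebraTensorModule.rid_tmul, Algebra.smul_def]
      exact Ideal.mul_mem_right _ _ (Ideal.mem_map_of_mem _ (hφ x))
    | add p q hp hq => rw [map_add, map_add]; exact add_mem hp hq

end Groth.Agent.LocAlgCx
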