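import Groth.Agent.LocAlgCx.Acyclic
import Groth.Agent.BiextChow.HomologyElem
import Mathlib.RingTheory.Artinian.Module

/-!
# Bridge between homology in `ModuleCat` and elementwise exactness of sequences
-/

set_option autoImplicit false

universe u

open CategoryTheory

namespace Groth.Agent.LocAlgCx

variable {R : Type u} [CommRing R]

theorem isZero_homology_iff (S : ShortComplex (ModuleCat.{u} R)) :
    Limits.IsZero S.homology ↔ ∀ v, S.g.hom v = 0 → v ∈ LinearMap.range S.f.hom := by
  rw [← ShortComplex.exact_iff_isZero_homology, ShortComplex.moduleCat_exact_iff]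
  rfl

theorem exists_pow_smul_eq_bot [IsLocalRing R] (H : Type u) [AddCommGroup H] [Module R H]
    (hH : IsFiniteLength R H) :
    ∃ N : ℕ, IsLocalRing.maximalIdeal R ^ N • (⊤ : Submodule R H) = ⊥ := by
  obtain ⟨_, _⟩ := isFiniteLength_iff_isNoetherian_isArtinian.1 hH
  let c : ℕ →o (Submodule R H)ᵒᵈ :=
    ⟨fun N => OrderDual.toDual (IsLocalRing.maximalIdeal R ^ N • (⊤ : Submodule R H)),
      fun a b hab => Submodule.smul_mono_left (Ideal.pow_le_pow_right hab)⟩
  obtain ⟨N, hN⟩ := IsArtinian.monotone_stabilizes c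
  refine ⟨N, Submodule.eq_bot_of_le_smul_of_le_jacobson_bot (IsLocalRing.maximalIdeal R) _
    (IsNoetherian.noetherian _) ?_ (IsLocalRing.maximalIdeal_le_jacobson _)⟩
  rw [← Submodule.smul_assoc, smul_eq_mul, ← pow_succ']
  exact OrderDual.toDual_le_toDual.1 (hN (N + 1) N.le_succ).ge

theorem exists_kill [IsLocalRing R] (S : ShortComplex (ModuleCat.{u} R))
    (hH : IsFiniteLength R S.homology) :
    ∃ N : ℕ, ∀ a ∈ IsLocalRing.maximalIdeal R ^ N, ∀ v, S.g.hom v = 0 →
      a • v ∈ LinearMap.range S.f.hom := by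
  obtain ⟨N, hN⟩ := exists_pow_smul_eq_bot _ hH
  refine ⟨N, fun a ha v hv => ?_⟩
  obtain ⟨c, rfl⟩ := BiextChow.exists_cycle v hv
  have h : S.homologyπ.hom (a • c) = 0 := by
    rw [map_smul]
    exact (Submodule.mem_bot R).1 (hN.le (Submodule.smul_mem_smul ha trivial))
  obtain ⟨w, hw⟩ := (BiextChow.homologyπ_eq_zero_iff _).1 h
  exact ⟨w, by rw [hw, map_smul]⟩

theorem isZero_homology_iff' {ι : Type} {c : ComplexShape ι}
    (K : HomologicalComplex (ModuleCat.{u} R) c) (i j k : ι) (hi : c.prev j = i) (hk : c.next j = k) :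
    Limits.IsZero (K.homology j) ↔ ∀ v, (K.d j k).hom v = 0 → v ∈ LinearMap.range (K.d i j).hom := by
  subst hi hk
  exact isZero_homology_iff (K.sc j)

theorem exists_kill' [IsLocalRing R] {ι : Type} {c : ComplexShape ι}
    (K : HomologicalComplex (ModuleCat.{u} R) c) (i j k : ι) (hi : c.prev j = i) (hk : c.next j = k)
    (hH : IsFiniteLength R (K.homology j)) :
    ∃ N : ℕ, ∀ a ∈ IsLocalRing.maximalIdeal R ^ N, ∀ v, (K.d j k).hom v = 0 →
      a • v ∈ LinearMap.range (K.d i j).hom := by
  subst hi hk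
  exact exists_kill (K.sc j) hH

section Cochain

variable (K : CochainComplex (ModuleCat.{u} R) ℕ)

theorem cochain_ff (n : ℕ) (v : K.X n) :
    (K.d (n + 1) (n + 1 + 1)).hom ((K.d n (n + 1)).hom v) = 0 :=
  congrArg (fun φ => φ.hom v) (K.d_comp_d n (n + 1) (n + 1 + 1))

theorem cochain_bd (n : ℕ) :
    bd (fun m => (K.d m (m + 1)).hom) n = LinearMap.range (K.d ((ComplexShape.up ℕ).prev n) n).hom := by
  cases n with
  | zero =>
    rw [CochainComplex.prev_nat_zero, K.shape 0 0 (by simp)]
    simp [bd]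
  | succ n => rw [CochainComplex.prev_nat_succ]; rfl

theorem cochain_ex_iff (n : ℕ) :
    Ex (fun m => (K.d m (m + 1)).hom) (⊥ : Ideal R) n ↔ Limits.IsZero (K.homology n) := by
  rw [isZero_homology_iff' K _ n (n + 1) rfl (CochainComplex.next ℕ n), ← cochain_bd]
  simp only [Ex, Submodule.bot_smul, Submodule.mem_bot, sup_bot_eq]

theorem cochain_kill [IsLocalRing R] (n : ℕ) (hH : IsFiniteLength R (K.homology n)) :
    ∃ N : ℕ, ∀ a ∈ IsLocalRing.maximalIdeal R ^ N,
      Kill (fun m => (K.d m (m + 1)).hom) (⊥ : Ideal R) a n := by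
  obtain ⟨N, hN⟩ := exists_kill' K _ n (n + 1) rfl (CochainComplex.next ℕ n) hH
  refine ⟨N, fun a ha v hv => ?_⟩
  rw [Submodule.bot_smul, Submodule.mem_bot] at hv
  rw [Submodule.bot_smul, sup_bot_eq, cochain_bd]
  exact hN a ha v hv

/-- Cohomology of finite length vanishes below the depth. -/
theorem isZero_homology_of_lt_depth [IsLocalRing R] (hfree : ∀ i, Module.Free R (K.X i)) (i : ℕ)
    (hfl : ∀ m ≤ i, IsFiniteLength R (K.homology m))
    (hi : ((i + 1 : ℕ) : ℕ∞) ≤ LocCoh.depth R R) : Limits.IsZero (K.homology i) :=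
  (cochain_ex_iff K i).1
    (ex_of_depth _ (cochain_ff K) i hi fun m hm => cochain_kill K m (hfl m hm))

end Cochain

section Chain

variable (F : ChainComplex (ModuleCat.{u} R) ℕ) (k : ℕ)

theorem chain_ff (n : ℕ) (v : F.X (k - n)) :
    (F.d (k - (n + 1)) (k - (n + 1 + 1))).hom ((F.d (k - n) (k - (n + 1))).hom v) = 0 :=
  congrArg (fun φ => φ.hom v) (F.d_comp_d (k - n) (k - (n + 1)) (k - (n + 1 + 1)))

variable (hbd : ∀ i, k < i → Limits.IsZero (F.X i))

include hbd in
theorem chain_bd (n : ℕ) (hn : n ≤ k) :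
    bd (fun m => (F.d (k - m) (k - (m + 1))).hom) n =
      LinearMap.range (F.d ((ComplexShape.down ℕ).prev (k - n)) (k - n)).hom := by
  rw [ChainComplex.prev]
  cases n with
  | zero =>
    rw [show (F.d (k - 0 + 1) (k - 0)) = 0 from (hbd _ (by omega)).eq_of_src _ _]
    simp [bd]
  | succ n =>
    obtain ⟨e, rfl⟩ := Nat.exists_eq_add_of_le hn
    have : n + 1 + e - n = n + 1 + e - (n + 1) + 1 := by omega
    show LinearMap.range (F.d (n + 1 + e - n) _).hom = _
    rw [this]

theorem chain_next (n : ℕ) :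
    (ComplexShape.down ℕ).next (k - n) = k - (n + 1) := by
  rcases h : k - n with _ | m
  · rw [ChainComplex.next_nat_zero]; omega
  · rw [ChainComplex.next_nat_succ]; omega

include hbd in
theorem chain_ex_iff (n : ℕ) (hn : n ≤ k) :
    Ex (fun m => (F.d (k - m) (k - (m + 1))).hom) (⊥ : Ideal R) n ↔
      Limits.IsZero (F.homology (k - n)) := by
  rw [isZero_homology_iff' F _ (k - n) _ rfl (chain_next k n), ← chain_bd F k hbd n hn]
  simp only [Ex, Submodule.bot_smul, Submodule.mem_bot, sup_bot_eq]

include hbd in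
theorem chain_kill [IsLocalRing R] (n : ℕ) (hn : n ≤ k) (hH : IsFiniteLength R (F.homology (k - n))) :
    ∃ N : ℕ, ∀ a ∈ IsLocalRing.maximalIdeal R ^ N,
      Kill (fun m => (F.d (k - m) (k - (m + 1))).hom) (⊥ : Ideal R) a n := by
  obtain ⟨N, hN⟩ := exists_kill' F _ (k - n) _ rfl (chain_next k n) hH
  refine ⟨N, fun a ha v hv => ?_⟩
  rw [Submodule.bot_smul, Submodule.mem_bot] at hv
  rw [Submodule.bot_smul, sup_bot_eq, chain_bd F k hbd n hn]
  exact hN a ha v hv

include hbd in
/-- Homology of finite length vanishes within the depth of the top of the complex. -/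
theorem isZero_homology_of_sub_lt [IsLocalRing R] (hfree : ∀ i, Module.Free R (F.X i))
    (hfl : ∀ i, IsFiniteLength R (F.homology i)) {d : ℕ} (hd : LocCoh.depth R R = d) (i : ℕ)
    (hi : k - d < i) : Limits.IsZero (F.homology i) := by
  rcases lt_or_ge k i with h | h
  · rw [← HomologicalComplex.exactAt_iff_isZero_homology, HomologicalComplex.exactAt_iff]
    exact ShortComplex.exact_of_isZero_X₂ _ (hbd i h)
  · obtain ⟨n, rfl⟩ : ∃ n, i = k - n := ⟨k - i, by omega⟩
    have hex := ex_of_depth (M := fun m => F.X (k - m)) _ (chain_ff F k) (min n k)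
      (by rw [hd]; exact_mod_cast (by omega : min n k + 1 ≤ d))
      fun m hm => chain_kill F k hbd m (by omega) (hfl _)
    rw [show k - n = k - min n k by omega]
    exact (chain_ex_iff F k hbd _ (min_le_right _ _)).1 hex

include hbd in
/-- A minimal complex has non-zero homology within the depth of its top. -/
theorem exists_homology_ne_zero [IsLocalRing R] [IsNoetherianRing R]
    (hfree : ∀ i, Module.Free R (F.X i) ∧ Module.Finite R (F.X i)) (htop : ¬ Limits.IsZero (F.X k))
    (hmin : ∀ i j, LinearMap.range (F.d i j).hom ≤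
      IsLocalRing.maximalIdeal R • (⊤ : Submodule R (F.X j)))
    {d : ℕ} (hd : LocCoh.depth R R = d) :
    ∃ i, k - d ≤ i ∧ i ≤ k ∧ ¬ Limits.IsZero (F.homology i) := by
  by_contra hc
  push Not at hc
  rcases lt_or_ge d k with hdk | hdk
  · haveI : ∀ m, Module.Free R (F.X (k - m)) := fun m => (hfree _).1
    haveI : Nontrivial (F.X (k - 0)) := by
      by_contra h
      rw [not_nontrivial_iff_subsingleton] at h
      exact htop (ModuleCat.isZero_of_subsingleton _)
    obtain ⟨n, hn, hne⟩ := not_ex_of_minimal (M := fun m => F.X (k - m))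
      (fun m => (F.d (k - m) (k - (m + 1))).hom) (chain_ff F k) hd (hmin _ _)
    exact hne ((chain_ex_iff F k hbd n (by omega)).2 (hc _ (by omega) (by omega)))
  · have hz : ∀ i, i ≤ k → Limits.IsZero (F.X i) := by
      intro i hi
      induction i using Nat.strong_induction_on with
      | _ i ih =>
        have hnext : F.d i ((ComplexShape.down ℕ).next i) = 0 := by
          rcases i with _ | i
          · exact F.shape _ _ (by simp)
          · rw [ChainComplex.next_nat_succ]
            exact (ih i (by omega) (by omega)).eq_of_tgt _ _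
        have h : Limits.IsZero (F.sc i).homology := hc i (by omega) hi
        rw [isZero_homology_iff] at h
        have hle : (⊤ : Submodule R (F.X i)) ≤ IsLocalRing.maximalIdeal R • ⊤ := fun v _ =>
          hmin _ _ (h v (by
            show (F.d i ((ComplexShape.down ℕ).next i)).hom v = 0
            rw [hnext]; rfl))
        haveI := (hfree i).2
        have hbot := Submodule.eq_bot_of_le_smul_of_le_jacobson_bot _ _ Module.Finite.fg_top hle
          (IsLocalRing.maximalIdeal_le_jacobson _)
        haveI : Subsingleton (F.X i) := Submodule.subsingleton_iff R |>.1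
          (subsingleton_of_bot_eq_top hbot.symm)
        exact ModuleCat.isZero_of_subsingleton _
    exact htop (hz k le_rfl)

end Chain

end Groth.Agent.LocAlgCx
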